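import Groth.Agent.DCX42.PushAdj
import Groth.Agent.DCoh43.Basic
import Groth.Agent.Mod48.PushShift
import Groth.Agent.Mod48.CohInPlus
import Groth.Agent.GSS45.ClosedHom
import Groth.Agent.GSS45.SchemeSS
import Groth.Agent.Coh69.RelVanish
import Groth.Agent.RB70.Coherent
import Groth.Agent.S0792
import Groth.Agent.QC70.CohOps

/-!
Derived direct images of coherent modules with proper support.
-/

set_option autoImplicit false
set_option maxSynthPendingDepth 3
set_option linter.style.haveILetI false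
set_option backward.isDefEq.respectTransparency.types false

noncomputable section

universe u

open CategoryTheory CategoryTheory.Limits CategoryTheory.Pretriangulated DerivedCategory AlgebraicGeometry
open scoped ZeroObject

attribute [local instance] HasDerivedCategory.standard

namespace Groth.Agent.PropPush72

variable {X Y : Scheme.{u}}

/-- The unit of `Rf_*`. -/
abbrev αu (f : X ⟶ Y) [DCoh.HasRpush f] :=
  (DCoh.pushKh f).totalRightDerivedUnit DerivedCategory.Qh
    (HomotopyCategory.quasiIso X.Modules (ComplexShape.up ℤ))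

lemma hα (f : X ⟶ Y) [DCoh.HasRpush f] :
    ∀ I : CochainComplex X.Modules ℤ, I.IsKInjective →
      IsIso ((αu f).app ((HomotopyCategory.quotient X.Modules (ComplexShape.up ℤ)).obj I)) :=
  DCX42.isIso_pushUnit f

instance additive_Rpush (f : X ⟶ Y) [DCoh.HasRpush f] : (DCoh.Rpush f).Additive :=
  CohDer42.RlimRight.additive_push _ _ (hα f) CohDer42.RdAdj.enoughKInj

/-- `Rf_*` preserves lower bounds. -/
lemma isGE_Rpush (f : X ⟶ Y) [DCoh.HasRpush f] (E : DCoh.D X) (n : ℤ) [E.IsGE n] :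
    ((DCoh.Rpush f).obj E).IsGE n :=
  DCoh43.isGE_rightDerived (Scheme.Modules.pushforward f) _ (αu f) E n

/-- The cohomology of `Rf_*` of a module. -/
lemma nonempty_HD_Rpush_inD (f : X ⟶ Y) [DCoh.HasRpush f] (F : X.Modules) (p : ℕ) :
    Nonempty (DCoh.HD ((DCoh.Rpush f).obj (DCoh.inD X F)) (p : ℤ) ≅ (Coh.Rpush f p).obj F) :=
  Mod48.LocGen.nonempty_homology_push_single_rightDerived_iso _ (αu f) (hα f) F p

/-- `Rf_*` maps distinguished triangles to distinguished triangles. -/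
lemma exists_distinguished (f : X ⟶ Y) [DCoh.HasRpush f] (T : Triangle (DCoh.D X))
    (hT : T ∈ distinguishedTriangles) :
    ∃ c, Triangle.mk ((DCoh.Rpush f).map T.mor₁) ((DCoh.Rpush f).map T.mor₂) c ∈ distinguishedTriangles :=
  CohDer42.RlimRight.exists_distinguished_push _ (αu f) (hα f) CohDer42.RdAdj.enoughKInj _ _ T.mor₃ hT

/-- Cohomology of `Rf_*` of a shifted module. -/
lemma nonempty_HD_Rpush_single (f : X ⟶ Y) [DCoh.HasRpush f] (F : X.Modules) (q j i : ℤ) (h : q + i = j) :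
    Nonempty (DCoh.HD ((DCoh.Rpush f).obj ((singleFunctor X.Modules q).obj F)) j ≅
      DCoh.HD ((DCoh.Rpush f).obj (DCoh.inD X F)) i) :=
  Mod48.LocGen.nonempty_homology_push_single_iso _ (αu f) (hα f) CohDer42.RdAdj.enoughKInj F q j i h

/-- The direct image of a module along a closed immersion, in the derived category. -/
lemma nonempty_Rpush_inD_closedImmersion {Z : Scheme.{u}} (i : Z ⟶ X) [IsClosedImmersion i]
    [DCoh.HasRpush i] (G : Z.Modules) :
    Nonempty ((DCoh.Rpush i).obj (DCoh.inD Z G) ≅ DCoh.inD X ((Scheme.Modules.pushforward i).obj G)) := by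
  have := GSS45.ClosedHom.preservesFiniteLimits_pushforward i
  have := GSS45.ClosedHom.preservesFiniteColimits_pushforward i
  let E := (DCoh.Rpush i).obj (DCoh.inD Z G)
  have hge : TStructure.t.IsGE E 0 := isGE_Rpush i _ 0
  have hle : TStructure.t.IsLE E 0 := by
    refine (DerivedCategory.isLE_iff E 0).2 fun n hn => ?_
    obtain ⟨p, rfl⟩ : ∃ p : ℕ, n = ((p + 1 : ℕ) : ℤ) := ⟨(n - 1).toNat, by omega⟩
    obtain ⟨e⟩ := nonempty_HD_Rpush_inD i G (p + 1)
    refine IsZero.of_iso ?_ e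
    let ρ : InjectiveResolution G := Classical.choice (HasInjectiveResolutions.out G).out
    refine IsZero.of_iso ?_ (ρ.isoRightDerivedObj (Scheme.Modules.pushforward i) (p + 1))
    refine HomologicalComplex.ExactAt.isZero_homology ?_
    refine (HomologicalComplex.exactAt_iff' _ p (p + 1) (p + 2) (by simp) (by simp)).2 ?_
    exact ((ρ.cocomplex.exactAt_iff' p (p + 1) (p + 2) (by simp) (by simp)).1
      (ρ.cocomplex_exactAt_succ p)).map (Scheme.Modules.pushforward i)
  obtain ⟨M, ⟨e⟩⟩ := exists_iso_singleFunctor_obj_of_isGE_of_isLE E 0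
  obtain ⟨e'⟩ := nonempty_HD_Rpush_inD i G 0
  exact ⟨e ≪≫ (singleFunctor X.Modules 0).mapIso (((singleFunctorCompHomologyFunctorIso X.Modules 0).app M).symm ≪≫
    (homologyFunctor X.Modules 0).mapIso e.symm ≪≫ e' ≪≫
      (Scheme.Modules.pushforward i).rightDerivedZeroIsoSelf.app G)⟩

/-- Higher direct images of the direct image along a closed immersion. -/
lemma nonempty_rpush_comp {Z : Scheme.{u}} (i : Z ⟶ X) [IsClosedImmersion i] (f : X ⟶ Y) (G : Z.Modules)
    (p : ℕ) :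
    Nonempty ((Coh.Rpush f p).obj ((Scheme.Modules.pushforward i).obj G) ≅ (Coh.Rpush (i ≫ f) p).obj G) := by
  have := DCX42.hasRpush i
  have := DCX42.hasRpush f
  have := DCX42.hasRpush (i ≫ f)
  obtain ⟨e₀⟩ := nonempty_Rpush_inD_closedImmersion i G
  obtain ⟨e₁⟩ := DCX42.Rpush_comp i f
  obtain ⟨e₂⟩ := nonempty_HD_Rpush_inD f ((Scheme.Modules.pushforward i).obj G) p
  obtain ⟨e₃⟩ := nonempty_HD_Rpush_inD (i ≫ f) G p
  exact ⟨e₂.symm ≪≫ (homologyFunctor Y.Modules (p : ℤ)).mapIso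
    ((DCoh.Rpush f).mapIso e₀.symm ≪≫ e₁.app (DCoh.inD Z G)) ≪≫ e₃⟩

/-- A coherent module with proper support is a direct image from a scheme proper over the base. -/
lemma exists_model (f : X ⟶ Y) [LocallyOfFiniteType f] {F : X.Modules} (hF : Coh.IsCoh F)
    (hs : ClSub.IsProperOver f (CohB1.support F)) :
    ∃ (Z : Scheme.{u}) (i : Z ⟶ X), IsClosedImmersion i ∧ IsProper (i ≫ f) ∧
      ∃ G : Z.Modules, Coh.IsCoh G ∧ Nonempty ((Scheme.Modules.pushforward i).obj G ≅ F) := by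
  obtain ⟨Z, i, hi, hp, G, hGq, hGf, he⟩ := (S0792.result f F hF.1 hF.2).1 hs
  exact ⟨Z, i, hi, hp, G, ⟨hGq, hGf⟩, he⟩

/-- Higher direct images of coherent modules with proper support are coherent. -/
theorem isCoh_rpush (f : X ⟶ Y) [LocallyOfFiniteType f] [IsLocallyNoetherian Y] {F : X.Modules}
    (hF : Coh.IsCoh F) (hs : ClSub.IsProperOver f (CohB1.support F)) (p : ℕ) :
    Coh.IsCoh ((Coh.Rpush f p).obj F) := by
  obtain ⟨Z, i, hi, hp, G, hG, ⟨e⟩⟩ := exists_model f hF hs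
  obtain ⟨e'⟩ := nonempty_rpush_comp i f G p
  exact QC70.isCoh_of_iso (e'.symm ≪≫ (Coh.Rpush f p).mapIso e) (RB70.isCoh_rpush (i ≫ f) G hG p)

/-- Higher direct images of a coherent module with proper support vanish in large degrees. -/
theorem exists_bound_rpush (f : X ⟶ Y) [LocallyOfFiniteType f] [CompactSpace Y] {F : X.Modules}
    (hF : Coh.IsCoh F) (hs : ClSub.IsProperOver f (CohB1.support F)) :
    ∃ n : ℕ, ∀ p : ℕ, n ≤ p → IsZero ((Coh.Rpush f p).obj F) := by
  obtain ⟨Z, i, hi, hp, G, hG, ⟨e⟩⟩ := exists_model f hF hs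
  obtain ⟨n, hn⟩ := Coh69.exists_bound_RpushAb (i ≫ f)
  refine ⟨n, fun p hnp => ?_⟩
  obtain ⟨e'⟩ := nonempty_rpush_comp i f G p
  obtain ⟨e''⟩ := GSS45.nonempty_toAb_Rpush (i ≫ f) G p
  refine IsZero.of_iso ?_ ((Coh.Rpush f p).mapIso e.symm ≪≫ e')
  have h := (hn G hG.1 p hnp).of_iso e''
  rw [IsZero.iff_id_eq_zero] at h ⊢
  let tY : Y.Modules ⥤ Sheaf (Opens.grothendieckTopology Y) AddCommGrpCat.{u} :=
    SheafOfModules.toSheaf Y.ringCatSheaf
  haveI : tY.Faithful := inferInstanceAs (SheafOfModules.toSheaf Y.ringCatSheaf).Faithful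
  haveI : tY.Additive := inferInstanceAs (SheafOfModules.toSheaf Y.ringCatSheaf).Additive
  exact tY.map_injective ((tY.map_id _).trans (h.trans (tY.map_zero _ _).symm))

lemma support_zero : CohB1.support (0 : X.Modules) = ∅ := by
  ext x
  simp only [Set.mem_empty_iff_false, iff_false]
  refine fun h => h ?_
  refine subsingleton_of_forall_eq 0 fun e => ?_
  have h0 := QC70.stalkMapM_id (M := (0 : X.Modules)) x e
  rw [(isZero_zero X.Modules).eq_of_src (𝟙 _) 0, QC70.stalkMapM_zero] at h0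
  exact h0.symm

lemma isWeakSerre_coh (S : Scheme.{u}) [IsLocallyNoetherian S] :
    WSerre.IsWeakSerre (Coh.IsCoh : ObjectProperty S.Modules) :=
  haveI : ObjectProperty.IsClosedUnderIsomorphisms (Coh.IsCoh : ObjectProperty S.Modules) :=
    ⟨fun e h => QC70.isCoh_of_iso e h⟩
  haveI : ObjectProperty.ContainsZero (Coh.IsCoh : ObjectProperty S.Modules) :=
    ⟨⟨0, isZero_zero _, QC70.isCoh_of_isZero (isZero_zero _)⟩⟩
  haveI : ObjectProperty.IsClosedUnderKernels (Coh.IsCoh : ObjectProperty S.Modules) :=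
    ⟨by
      rintro _ ⟨φ, k, hk, hφ⟩
      exact QC70.isCoh_of_iso ((kernelIsKernel φ).conePointUniqueUpToIso hk)
        (QC70.isCoh_kernel φ hφ.1 hφ.2.1)⟩
  haveI : ObjectProperty.IsClosedUnderCokernels (Coh.IsCoh : ObjectProperty S.Modules) :=
    ⟨by
      rintro _ ⟨φ, k, hk, hφ⟩
      exact QC70.isCoh_of_iso ((cokernelIsCokernel φ).coconePointUniqueUpToIso hk)
        (QC70.isCoh_cokernel φ hφ.1.1 hφ.2)⟩
  haveI : ObjectProperty.IsClosedUnderExtensions (Coh.IsCoh : ObjectProperty S.Modules) :=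
    ⟨fun hS h₁ h₃ => QC70.isCoh_X₂ _ hS h₁ h₃⟩
  { }

/-- Coherent cohomology and boundedness of `Rf_*` on bounded objects. -/
theorem isCohD_Rpush_bounded (f : X ⟶ Y) [LocallyOfFiniteType f] [IsLocallyNoetherian Y]
    [DCoh.HasRpush f] (E : DCoh.D X) (a b : ℤ) (ha : E.IsGE a) (hb : E.IsLE b) (hE : DCoh.IsCohD E)
    (hs : ∀ i : ℤ, ClSub.IsProperOver f (CohB1.support (DCoh.HD E i))) :
    DCoh.IsCohD ((DCoh.Rpush f).obj E) ∧
      (CompactSpace Y → ∃ b' : ℤ, ((DCoh.Rpush f).obj E).IsLE b') := by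
  have := isWeakSerre_coh Y
  let S : ObjectProperty (DCoh.D X) := fun Z => DCoh.IsCohD ((DCoh.Rpush f).obj Z) ∧
    (CompactSpace Y → ∃ b' : ℤ, ((DCoh.Rpush f).obj Z).IsLE b')
  have hiso : ∀ {Z Z' : DCoh.D X} (_ : Z ≅ Z'), S Z → S Z' := by
    intro Z Z' e h
    refine ⟨fun i => QC70.isCoh_of_iso ((homologyFunctor _ i).mapIso ((DCoh.Rpush f).mapIso e)) (h.1 i), fun hc => ?_⟩
    obtain ⟨b', hb'⟩ := h.2 hc
    exact ⟨b', TStructure.t.isLE_of_iso ((DCoh.Rpush f).mapIso e) b'⟩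
  have : S.IsClosedUnderIsomorphisms := ⟨fun e h => hiso e h⟩
  have hzero : ∀ Z, IsZero Z → S Z := fun Z hZ => by
    have hz := (DCoh.Rpush f).map_isZero hZ
    refine ⟨fun i => QC70.isCoh_of_isZero ((homologyFunctor _ i).map_isZero hz), fun _ => ⟨0, ?_⟩⟩
    exact (DerivedCategory.isLE_iff _ _).2 fun i _ => (homologyFunctor _ i).map_isZero hz
  have hext : ∀ T ∈ distinguishedTriangles, S (Triangle.obj₁ T) → S (Triangle.obj₃ T) → S (Triangle.obj₂ T) := by
    intro T hT h₁ h₃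
    obtain ⟨c, hc⟩ := exists_distinguished f T hT
    refine ⟨Mod48.prop_homology_obj₂ _ _ hc h₁.1 h₃.1, fun hY => ?_⟩
    obtain ⟨b₁, hb₁⟩ := h₁.2 hY
    obtain ⟨b₃, hb₃⟩ := h₃.2 hY
    have hb₁' : TStructure.t.IsLE ((DCoh.Rpush f).obj T.obj₁) b₁ := hb₁
    have hb₃' : TStructure.t.IsLE ((DCoh.Rpush f).obj T.obj₃) b₃ := hb₃
    exact ⟨max b₁ b₃, TStructure.t.isLE₂ _ hc _
      (TStructure.t.isLE_of_le ((DCoh.Rpush f).obj T.obj₁) b₁ _ (le_max_left _ _))
      (TStructure.t.isLE_of_le ((DCoh.Rpush f).obj T.obj₃) b₃ _ (le_max_right _ _))⟩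
  refine Mod48.bounded_induction S hzero hext (b + 1 - a).toNat a E ha
    (TStructure.t.isLE_of_le _ b _ (by omega)) fun q => ?_
  constructor
  · intro j
    obtain ⟨e⟩ := nonempty_HD_Rpush_single f (DCoh.HD E q) q j (j - q) (by omega)
    refine QC70.isCoh_of_iso e.symm ?_
    by_cases hneg : j - q < 0
    · exact QC70.isCoh_of_isZero (DerivedCategory.isZero_of_isGE _ 0 _ hneg (hX := isGE_Rpush f _ 0))
    · obtain ⟨p, hp⟩ : ∃ p : ℕ, j - q = (p : ℤ) := ⟨(j - q).toNat, by omega⟩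
      rw [hp]
      obtain ⟨e'⟩ := nonempty_HD_Rpush_inD f (DCoh.HD E q) p
      exact QC70.isCoh_of_iso e'.symm (isCoh_rpush f (hE q) (hs q) p)
  · intro hY
    obtain ⟨n, hn⟩ := exists_bound_rpush f (hE q) (hs q)
    refine ⟨q + n, (DerivedCategory.isLE_iff _ _).2 fun j hj => ?_⟩
    obtain ⟨e⟩ := nonempty_HD_Rpush_single f (DCoh.HD E q) q j (j - q) (by omega)
    refine IsZero.of_iso ?_ e
    obtain ⟨p, hp⟩ : ∃ p : ℕ, j - q = (p : ℤ) := ⟨(j - q).toNat, by omega⟩
    rw [hp]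
    obtain ⟨e'⟩ := nonempty_HD_Rpush_inD f (DCoh.HD E q) p
    exact IsZero.of_iso (hn p (by omega)) e'

/-- Coherent cohomology of `Rf_*` on bounded below objects. -/
theorem isCohD_Rpush (f : X ⟶ Y) [LocallyOfFiniteType f] [IsLocallyNoetherian Y] [DCoh.HasRpush f]
    (E : DCoh.D X) (a : ℤ) (ha : E.IsGE a) (hE : DCoh.IsCohD E)
    (hs : ∀ i : ℤ, ClSub.IsProperOver f (CohB1.support (DCoh.HD E i))) :
    DCoh.IsCohD ((DCoh.Rpush f).obj E) := by
  intro j
  let m := max a j + 2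
  have hT := TStructure.t.triangleLTGE_distinguished m E
  let W := (TStructure.t.truncLT m).obj E
  have hWge : W.IsGE a := inferInstanceAs (TStructure.t.IsGE _ a)
  have hWle : W.IsLE (m - 1) := TStructure.t.isLE_truncLT_obj E m (m - 1) (by omega)
  have hW : DCoh.IsCohD W ∧ ∀ q, ClSub.IsProperOver f (CohB1.support (DCoh.HD W q)) := by
    have key : ∀ q, q < m → Nonempty (DCoh.HD W q ≅ DCoh.HD E q) := fun q hq => by
      have := Mod48.isIso_homology_truncLTι E m q hq
      exact ⟨asIso ((homologyFunctor _ q).map ((TStructure.t.truncLTι m).app E))⟩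
    have hz : ∀ q, m ≤ q → IsZero (DCoh.HD W q) := fun q hq =>
      DerivedCategory.isZero_of_isLE W (m - 1) q (by omega)
    have hcoh : DCoh.IsCohD W := fun q => by
      by_cases hq : q < m
      · exact QC70.isCoh_of_iso (key q hq).some.symm (hE q)
      · exact QC70.isCoh_of_isZero (hz q (by omega))
    refine ⟨hcoh, fun q => ?_⟩
    have := (hcoh q).2
    refine Coh69.PO.mono (hs (if q < m then q else j)) (QC70.isClosed_support _) ?_
    split_ifs with hq
    · exact QC70.mem_support_of_mono (key q hq).some.hom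
    · exact (QC70.mem_support_of_mono (hz q (by omega)).isoZero.hom).trans
        (support_zero.le.trans (Set.empty_subset _))
  obtain ⟨c, hc⟩ := exists_distinguished f _ hT
  have hR : ((DCoh.Rpush f).obj ((TStructure.t.truncGE m).obj E)).IsGE m :=
    haveI : ((TStructure.t.truncGE m).obj E).IsGE m := inferInstanceAs (TStructure.t.IsGE _ m)
    isGE_Rpush f _ m
  have := Mod48.isIso_homology_mor₁_of_isGE _ hc m j hR (by omega)
  exact QC70.isCoh_of_iso (@asIso _ _ _ _ _ this)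
    ((isCohD_Rpush_bounded f W a (m - 1) hWge hWle hW.1 hW.2).1 j)

end Groth.Agent.PropPush72
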