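import Groth.Agent.PropPush72.Kernel
import Groth.Agent.IntMult12.CohTensorD
import Groth.Agent.PerfAmp41.Main
import Groth.Agent.DCX42.Coh
import Groth.Agent.S1005
import Groth.Agent.TorStalk41.Pull
import Groth.Agent.FlatModel41.Models
import Groth.Agent.FlatModel41.Exactness
import Groth.Agent.DCK91.KFlatStalk

/-!
Derived tensor product of an object of finite flat amplitude with a bounded complex: bounds and supports.
-/

set_option autoImplicit false
set_option maxSynthPendingDepth 3
set_option linter.style.haveILetI false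
set_option backward.isDefEq.respectTransparency.types false

noncomputable section

universe u

open CategoryTheory CategoryTheory.Limits AlgebraicGeometry

attribute [local instance] HasDerivedCategory.standard

namespace Groth.Agent.PropPush72

variable {X : Scheme.{u}}

/-- A perfect object on a quasi-compact scheme has finite flat amplitude. -/
theorem exists_flatAmp_of_isPerfect [CompactSpace X] {M : DCoh.D X} (hM : DCoh.IsPerfect M) :
    ∃ a b : ℤ, DCoh.HasFlatAmplitudeIn a b M := by
  choose V hx E hE e using (DCX42.isPerfect_iff M).mp hM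
  choose a b hab using fun x => (hE x).1
  obtain ⟨t, ht⟩ := IsCompact.elim_finite_subcover isCompact_univ (fun x => (V x : Set X))
    (fun x => (V x).2) fun x _ => Set.mem_iUnion.mpr ⟨x, hx x⟩
  obtain ⟨A, hA⟩ := (t.finite_toSet.image a).bddBelow
  obtain ⟨B, hB⟩ := (t.finite_toSet.image b).bddAbove
  refine ⟨A, max A B, PerfAmp41.flatAmp_of_perfAmp (le_max_left _ _) ((PerfAmp41.isPerfAmp_iff _ _ M).2 fun y => ?_)⟩
  obtain ⟨x, hxt, hy⟩ := Set.mem_iUnion₂.mp (ht (Set.mem_univ y))
  refine ⟨V x, hy, E x, fun i hi => hab x i ?_, (hE x).2, e x⟩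
  have h1 := hA ⟨x, hxt, rfl⟩
  have h2 := hB ⟨x, hxt, rfl⟩
  omega

/-- A complex with bounded cohomology, replaced by a bounded complex after tensoring with a K-flat complex. -/
lemma exists_bounded_model (P K : CochainComplex X.Modules ℤ) (hP : ModSite.IsKFlat (O := X.sheaf) P) (c d : ℤ)
    (hc : K.IsGE c) (hd : K.IsLE d) :
    ∃ K' : CochainComplex X.Modules ℤ, (∀ i, i < c ∨ d < i → IsZero (K'.X i)) ∧
      (∀ i, Nonempty (K'.homology i ≅ K.homology i)) ∧
      Nonempty (DCoh.toD X ((DCoh.tensorCx.obj P).obj K) ≅ DCoh.toD X ((DCoh.tensorCx.obj P).obj K')) := by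
  let K₁ : CochainComplex X.Modules ℤ := K.truncLE d
  let K' : CochainComplex X.Modules ℤ := K₁.truncGE c
  haveI := hd
  have q1 : QuasiIso (K.ιTruncLE d) := inferInstance
  have hK₁ : K₁.IsGE c := (CochainComplex.isGE_iff _ _).2 fun i hi =>
    (HomologicalComplex.exactAt_iff_isZero_homology _ _).2
      (((HomologicalComplex.exactAt_iff_isZero_homology _ _).1 ((CochainComplex.isGE_iff K c).1 hc i hi)).of_iso
        (isoOfQuasiIsoAt (K.ιTruncLE d) i))
  haveI := hK₁
  have q2 : QuasiIso (K₁.πTruncGE c) := (K₁.quasiIso_πTruncGE_iff c).2 hK₁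
  have t1 := @FlatModel41.tensor_second_qis _ _ _ X.sheaf _ hP _ _ (K.ιTruncLE d) q1
  have t2 := @FlatModel41.tensor_second_qis _ _ _ X.sheaf _ hP _ _ (K₁.πTruncGE c) q2
  haveI := (DerivedCategory.isIso_Q_map_iff_quasiIso X.Modules ((DCoh.tensorCx.obj P).map (K.ιTruncLE d))).2 t1
  haveI := (DerivedCategory.isIso_Q_map_iff_quasiIso X.Modules ((DCoh.tensorCx.obj P).map (K₁.πTruncGE c))).2 t2
  refine ⟨K', fun i hi => ?_, fun i => ?_,
    ⟨(asIso (DerivedCategory.Q.map ((DCoh.tensorCx.obj P).map (K.ιTruncLE d)))).symm ≪≫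
      asIso (DerivedCategory.Q.map ((DCoh.tensorCx.obj P).map (K₁.πTruncGE c)))⟩⟩
  · rcases hi with hi | hi
    · exact K'.isZero_of_isStrictlyGE c i hi
    · by_cases hci : i < c
      · exact K'.isZero_of_isStrictlyGE c i hci
      · haveI : K'.IsStrictlyLE d := inferInstanceAs ((K₁.truncGE c).IsStrictlyLE d)
        exact K'.isZero_of_isStrictlyLE d i hi
  · exact ⟨(isoOfQuasiIsoAt (K₁.πTruncGE c) i).symm ≪≫ isoOfQuasiIsoAt (K.ιTruncLE d) i⟩

/-- Bounds and support of a derived tensor product. -/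
theorem bounds_ltensor (E : CochainComplex X.Modules ℤ) [DCoh.HasLTensorCx E] (c d : ℤ) (hc : E.IsGE c)
    (hd : E.IsLE d) (L : DCoh.D X) {a b : ℤ} (hL : DCoh.HasFlatAmplitudeIn a b L) :
    ((DCoh.LTensorCx E).obj L).IsGE (a + c) ∧ ((DCoh.LTensorCx E).obj L).IsLE (b + d) ∧
      ∀ i, CohB1.support (DCoh.HD ((DCoh.LTensorCx E).obj L) i) ⊆
        ⋃ q : ↥(Finset.Icc c d), CohB1.support (DCoh.HD (DCoh.toD X E) q.1) := by
  obtain ⟨P, hPb, hPf, ⟨eP⟩⟩ := hL
  have hPk := (DCK91.kff_of_le P b (fun i hi => hPb i (Or.inr hi)) hPf).1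
  obtain ⟨eV⟩ := TorStalk41.nonempty_ltensorIso E P hPk
  obtain ⟨K', hK', hh, ⟨eK⟩⟩ := exists_bounded_model P E hPk c d hc hd
  let T : CochainComplex X.Modules ℤ := (DCoh.tensorCx.obj P).obj K'
  let e : (DCoh.LTensorCx E).obj L ≅ DCoh.toD X T := (DCoh.LTensorCx E).mapIso eP.symm ≪≫ eV ≪≫ eK
  have hz : ∀ i, i < a + c ∨ b + d < i → IsZero (T.X i) := fun i hi =>
    FlatModel41.isZero_tc_X (O := X.sheaf) (P := P) (F := K') i fun p q hpq => by
      by_cases hp : p < a ∨ b < p
      · exact Or.inl (hPb p hp)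
      · exact Or.inr (hK' q (by omega))
  refine ⟨(DerivedCategory.isGE_iff _ _).2 fun i hi => ?_, (DerivedCategory.isLE_iff _ _).2 fun i hi => ?_,
    fun i x hx => ?_⟩
  · exact (DCK91.isZero_HD_toD T i (hz i (Or.inl hi))).of_iso ((DerivedCategory.homologyFunctor _ i).mapIso e)
  · exact (DCK91.isZero_HD_toD T i (hz i (Or.inr hi))).of_iso ((DerivedCategory.homologyFunctor _ i).mapIso e)
  · by_contra hn
    simp only [Set.mem_iUnion, not_exists] at hn
    let G := DCK91.SP x
    have hacy : ∀ j, IsZero (((DCK91.SPc x).obj K').homology j) := by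
      intro j
      refine IsZero.of_iso ?_ ((K'.sc j).mapHomologyIso G)
      by_cases hj : j ∈ Finset.Icc c d
      · have h := QC70.notMem_support_iff.1 (hn ⟨j, hj⟩)
        refine IsZero.of_iso (@ModuleCat.isZero_of_subsingleton _ _ (G.obj (DCoh.HD (DCoh.toD X E) j)) h) ?_
        exact G.mapIso ((hh j).some ≪≫ ((DerivedCategory.homologyFunctorFactors X.Modules j).app E).symm)
      · exact G.map_isZero ((HomologicalComplex.exactAt_iff_isZero_homology K' j).1
          (ShortComplex.exact_of_isZero_X₂ _ (hK' j (by simp only [Finset.mem_Icc] at hj; omega))))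
    obtain ⟨eT⟩ := DCK91.stalkTotIso x K' P
    have hk := DCK91.isKFlat_stalk (show DCoh.IsKFlat P from hPk) x ((DCK91.SPc x).obj K') hacy i
    have h0 : IsZero (G.obj (DCoh.HD ((DCoh.LTensorCx E).obj L) i)) := by
      refine IsZero.of_iso ?_ (G.mapIso ((DerivedCategory.homologyFunctor _ i).mapIso e ≪≫
        (DerivedCategory.homologyFunctorFactors X.Modules i).app T ≪≫
        (HomologicalComplex.homologyFunctor X.Modules (ComplexShape.up ℤ) i).mapIso
          (Mod48.tcSymm (O := X.sheaf) K' P).symm) ≪≫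
        ((((DCoh.tensorCx.obj K').obj P).sc i).mapHomologyIso G).symm ≪≫
        (HomologicalComplex.homologyFunctor _ _ i).mapIso eT.symm)
      exact hk
    exact hx (ModuleCat.subsingleton_of_isZero h0)

end Groth.Agent.PropPush72
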