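import Groth.Agent.PropPush72.Basic
import Groth.Agent.DCX42.LpullLoc
import Groth.Agent.DCK91.Tri
import Groth.Agent.DCK91.StalkTensorNat
import Groth.Agent.Amp73.GlobGen
import Groth.Agent.E4O.InfDescent
import Groth.Agent.QC70.HomMod
import Groth.Agent.QCTens72.Basic
import Groth.Agent.QCPull72.Support
import Groth.Agent.S0796

/-!
The functor `M ↦ p^*M ⊗ K` for a kernel `K` flat along `p`.
-/

set_option autoImplicit false
set_option maxSynthPendingDepth 3
set_option linter.style.haveILetI false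
set_option backward.isDefEq.respectTransparency.types false

noncomputable section

universe u

open CategoryTheory CategoryTheory.Limits AlgebraicGeometry TensorProduct
open Groth.Agent.QC70

attribute [local instance] HasDerivedCategory.standard

namespace Groth.Agent.PropPush72

section Algebra

variable {A B M M' N N' K : Type u} [CommRing A] [CommRing B] [Algebra A B]
  [AddCommGroup M] [Module A M] [AddCommGroup M'] [Module A M']
  [AddCommGroup N] [Module A N] [Module B N] [IsScalarTower A B N]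
  [AddCommGroup N'] [Module A N'] [Module B N'] [IsScalarTower A B N']
  [AddCommGroup K] [Module A K] [Module B K] [IsScalarTower A B K]

/-- Tensoring a base change with a module over the bigger ring. -/
def cancelEquiv {i : M →ₗ[A] N} (hi : IsBaseChange B i) : K ⊗[A] M ≃ₗ[B] K ⊗[B] N :=
  (AlgebraTensorModule.cancelBaseChange A B B K M).symm ≪≫ₗ hi.equiv.lTensor K

lemma cancelEquiv_tmul {i : M →ₗ[A] N} (hi : IsBaseChange B i) (k : K) (m : M) :
    cancelEquiv hi (k ⊗ₜ[A] m) = k ⊗ₜ[B] i m := by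
  simp [cancelEquiv, IsBaseChange.equiv_tmul]

/-- Base change of an injective map stays injective after tensoring with a module flat over the small ring. -/
lemma injective_rTensor_of_isBaseChange [Module.Flat A K] {i : M →ₗ[A] N} (hi : IsBaseChange B i)
    {i' : M' →ₗ[A] N'} (hi' : IsBaseChange B i') (g : M →ₗ[A] M') (hg : Function.Injective g)
    (h : N →ₗ[B] N') (hh : ∀ m, h (i m) = i' (g m)) : Function.Injective (h.rTensor K) := by
  rw [← LinearMap.lTensor_inj_iff_rTensor_inj]
  have key : ∀ x, h.lTensor K (cancelEquiv hi x) = cancelEquiv hi' (g.lTensor K x) := by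
    intro x
    induction x using TensorProduct.induction_on with
    | zero => simp
    | tmul k m => simp [cancelEquiv_tmul, hh]
    | add a b ha hb => simp [map_add, ha, hb]
  intro x y e
  obtain ⟨x, rfl⟩ := (cancelEquiv (K := K) hi).surjective x
  obtain ⟨y, rfl⟩ := (cancelEquiv (K := K) hi).surjective y
  rw [key, key] at e
  exact congrArg _ (Module.Flat.lTensor_preserves_injective_linearMap g hg ((cancelEquiv hi').injective e))

end Algebra

variable {X Z : Scheme.{u}} (p : Z ⟶ X) (K : Z.Modules)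

lemma pullη_natural {M N : X.Modules} (k : M ⟶ N) (z : Z) (e : M.presheaf.stalk (p z)) :
    stalkMapM ((Scheme.Modules.pullback p).map k) z (DCK91.pullη p M z e) =
      DCK91.pullη p N z (stalkMapM k (p z) e) := by
  obtain ⟨W, hW, t, rfl⟩ := germM_exist e
  rw [stalkMapM_germ, DCK91.pullη_germ, DCK91.pullη_germ, stalkMapM_germ]
  refine congrArg _ ?_
  have h := congr((Scheme.Modules.Hom.app
    $((Scheme.Modules.pullbackPushforwardAdjunction p).unit.naturality k) W) t)
  exact h.symm

/-- `M ↦ p^*M ⊗ K`. -/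
abbrev psi : X.Modules ⥤ Z.Modules := Scheme.Modules.pullback p ⋙ DCoh.tensorRightMod K

lemma isLeftAdjoint_tensorRightMod : (DCoh.tensorRightMod K).IsLeftAdjoint :=
  ((QC70.homModAdjR K).ofNatIsoLeft
    (NatIso.ofComponents (fun _ => Iso.refl _)
      (fun _ => (Category.comp_id _).trans (Category.id_comp _).symm) :
        (ModSite.tensorBi Z.sheaf).flip.obj K ≅ DCoh.tensorRightMod K)).isLeftAdjoint

lemma isLeftAdjoint_psi : (psi p K).IsLeftAdjoint :=
  have := (Scheme.Modules.pullbackPushforwardAdjunction p).isLeftAdjoint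
  have := isLeftAdjoint_tensorRightMod K
  inferInstance

instance additive_psi : (psi p K).Additive :=
  haveI : (Scheme.Modules.pullback p).Additive :=
    (Scheme.Modules.pullbackPushforwardAdjunction p).left_adjoint_additive
  inferInstanceAs ((Scheme.Modules.pullback p ⋙ DCoh.tensorRightMod K).Additive)

theorem mono_psi_map (hflat : FlatMod.IsFlatOver p K) {M N : X.Modules} (k : M ⟶ N) [Mono k] :
    Mono ((psi p K).map k) := by
  rw [FlatMor68.PullbackDescent.mono_iff]
  intro z
  letI algZ := (p.stalkMap z).hom.toAlgebra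
  letI mK := FlatMod.moduleStalkOver p K z
  haveI : IsScalarTower (X.presheaf.stalk (p z)) (Z.presheaf.stalk z) (K.presheaf.stalk z) :=
    IsScalarTower.of_algebraMap_smul fun _ _ => rfl
  haveI : Module.Flat (X.presheaf.stalk (p z)) (K.presheaf.stalk z) := hflat z
  let PM := (Scheme.Modules.pullback p).obj M
  let PN := (Scheme.Modules.pullback p).obj N
  letI := Module.compHom (PM.presheaf.stalk z) (p.stalkMap z).hom
  letI := Module.compHom (PN.presheaf.stalk z) (p.stalkMap z).hom
  haveI : IsScalarTower (X.presheaf.stalk (p z)) (Z.presheaf.stalk z) (PM.presheaf.stalk z) :=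
    IsScalarTower.of_algebraMap_smul fun _ _ => rfl
  haveI : IsScalarTower (X.presheaf.stalk (p z)) (Z.presheaf.stalk z) (PN.presheaf.stalk z) :=
    IsScalarTower.of_algebraMap_smul fun _ _ => rfl
  have hinj := injective_rTensor_of_isBaseChange (K := K.presheaf.stalk z)
    (DCK91.isBaseChange_pullη p M z) (DCK91.isBaseChange_pullη p N z) (stalkLinear k (p z))
    (injective_stalkMapM_of_mono k (p z)) (stalkLinear ((Scheme.Modules.pullback p).map k) z)
    (pullη_natural p k z)
  have hsp : ∀ e, (DCK91.SP z).map ((psi p K).map k) e = stalkMapM ((psi p K).map k) z e :=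
    DCK91.SP_map_apply z ((psi p K).map k)
  intro a b e
  have e' : (DCK91.SP z).map ((psi p K).map k) a = (DCK91.SP z).map ((psi p K).map k) b :=
    (hsp a).trans (Eq.trans e (hsp b).symm)
  let t := DCK91.tensorStalk z PM K
  let t' := DCK91.tensorStalk z PN K
  obtain ⟨a, rfl⟩ := ((ConcreteCategory.isIso_iff_bijective t).1 inferInstance).2 a
  obtain ⟨b, rfl⟩ := ((ConcreteCategory.isIso_iff_bijective t).1 inferInstance).2 b
  have hn := DCK91.tensorStalk_left z ((Scheme.Modules.pullback p).map k) K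
  refine congrArg t.hom (hinj ?_)
  have hs : (DCK91.SP z).map ((Scheme.Modules.pullback p).map k) =
      ModuleCat.ofHom (stalkLinear ((Scheme.Modules.pullback p).map k) z) :=
    ModuleCat.hom_ext (LinearMap.ext fun x => DCK91.SP_map_apply z _ x)
  have ha := congr($hn a)
  have hb := congr($hn b)
  rw [hs] at ha hb
  exact ((ConcreteCategory.isIso_iff_bijective t').1 inferInstance).1 (ha.trans (e'.trans hb.symm))

/-- `p^*(-) ⊗ K` is exact. -/
theorem preservesHomology_psi (hflat : FlatMod.IsFlatOver p K) : (psi p K).PreservesHomology := by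
  have := isLeftAdjoint_psi p K
  have : (psi p K).PreservesMonomorphisms := ⟨fun k _ => mono_psi_map p K hflat k⟩
  exact (psi p K).preservesHomology_of_preservesMonos_and_cokernels

open DerivedCategory in
/-- The derived transform of a module. -/
theorem nonempty_transform_inD (hflat : FlatMod.IsFlatOver p K) [DCoh.HasLpull p] [DCoh.HasLTensorMod K]
    (F : X.Modules) (q : ℤ) :
    Nonempty ((DCoh.LTensorMod K).obj ((DCoh.Lpull p).obj ((singleFunctor X.Modules q).obj F)) ≅
      (singleFunctor Z.Modules q).obj ((psi p K).obj F)) := by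
  let S : CochainComplex X.Modules ℤ := (HomologicalComplex.single X.Modules (ComplexShape.up ℤ) q).obj F
  obtain ⟨P, c, hP, hfl, hc⟩ := DCK91.exists_flat_res_le (O := X.sheaf) S q
    (inferInstanceAs (CochainComplex.IsLE (C := X.Modules) S q))
  have hflm : ∀ i, FlatMod.IsFlat (X := X) (P.X i) := fun i => DCK91.flatMod_of_isFlat _ (hfl i)
  obtain ⟨hk, hf⟩ := DCK91.kff_of_le (X := X) P q hP hflm
  let P' := ((Scheme.Modules.pullback p).mapHomologicalComplex (ComplexShape.up ℤ)).obj P
  obtain ⟨hk', hf'⟩ := DCK91.kff_of_le (X := Z) P' q (fun i hi => (Scheme.Modules.pullback p).map_isZero (hP i hi))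
    fun i => DCK91.isFlat_pullback p _ (hflm i)
  have : IsIso (DerivedCategory.Q.map (C := CochainComplex X.Modules ℤ) c) :=
    (DerivedCategory.isIso_Q_map_iff_quasiIso X.Modules c).2 hc
  have := preservesHomology_psi p K hflat
  haveI hadd : (psi p K).Additive := additive_psi p K
  let G := (psi p K).mapHomologicalComplex (ComplexShape.up ℤ)
  let P₁ : CochainComplex X.Modules ℤ := P
  let c' : @Quiver.Hom (CochainComplex X.Modules ℤ) _ P₁ S := c
  haveI : QuasiIso c' := hc
  haveI : QuasiIso (C := Z.Modules) (G.map c) := inferInstanceAs (QuasiIso (G.map c'))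
  have : IsIso (DerivedCategory.Q.map (G.map c)) :=
    (DerivedCategory.isIso_Q_map_iff_quasiIso Z.Modules _).2 inferInstance
  exact ⟨(DCoh.LTensorMod K).mapIso ((DCoh.Lpull p).mapIso (((SingleFunctors.evaluation _ _ q).mapIso (singleFunctorsPostcompQIso X.Modules)).app F ≪≫
        (asIso (DerivedCategory.Q.map (C := CochainComplex X.Modules ℤ) c)).symm) ≪≫
      DCK91.lpullIso p P hk hf) ≪≫ DCK91.ltmIso K P' hk' hf' ≪≫
    DerivedCategory.Q.mapIso (C := CochainComplex Z.Modules ℤ)
      (Iso.refl (G.obj P)) ≪≫ asIso (DerivedCategory.Q.map (G.map c)) ≪≫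
    DerivedCategory.Q.mapIso ((HomologicalComplex.singleMapHomologicalComplex (psi p K) (ComplexShape.up ℤ) q).app F) ≪≫
    (((SingleFunctors.evaluation _ _ q).mapIso (singleFunctorsPostcompQIso Z.Modules)).app ((psi p K).obj F)).symm⟩

variable [IsLocallyNoetherian Z] {Y : Scheme.{u}} (g : Z ⟶ Y)

/-- Coherent with support proper over the base. -/
def cohPO : ObjectProperty Z.Modules := fun M => Coh.IsCoh M ∧ ClSub.IsProperOver g (CohB1.support M)

variable {K}

lemma cohPO_psi {F : X.Modules} [LocallyOfFiniteType g] (hF : Coh.IsCoh F) (hK : Coh.IsCoh K)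
    (hs : ClSub.IsProperOver g (CohB1.support K)) : cohPO g ((psi p K).obj F) := by
  have h1 := E4O.isCoh_pullback p F hF
  have h2 : Coh.IsCoh (CohB1.tensorMod ((Scheme.Modules.pullback p).obj F) K) := Amp73.isCoh_tensorMod h1 hK
  have := h1.1; have := h1.2; have := hK.1; have := hK.2; have := h2.2
  refine ⟨h2, Coh69.PO.mono hs ?_ ?_⟩
  · exact QC70.isClosed_support (CohB1.tensorMod ((Scheme.Modules.pullback p).obj F) K)
  · change CohB1.support (CohB1.tensorMod ((Scheme.Modules.pullback p).obj F) K) ⊆ _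
    rw [QCTens72.support_tensorMod]
    exact Set.inter_subset_right

open scoped ZeroObject in
lemma isWeakSerre_cohPO [LocallyOfFiniteType g] [IsLocallyNoetherian Y] (hne : ∃ F, cohPO g F) :
    WSerre.IsWeakSerre (cohPO g) := by
  obtain ⟨F₀, hF₀⟩ := hne
  have hiso : ∀ {M N : Z.Modules} (_ : M ≅ N), cohPO g M → cohPO g N := fun e h => by
    have hc := QC70.isCoh_of_iso e h.1
    have := hc.2
    exact ⟨hc, Coh69.PO.mono h.2 (QC70.isClosed_support _) (QC70.mem_support_of_mono e.inv)⟩
  haveI : ObjectProperty.ContainsZero (cohPO g) := by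
    refine ⟨⟨0, isZero_zero _, ?_⟩⟩
    have h := QC70.isCoh_of_isZero (isZero_zero Z.Modules)
    exact ⟨h, Coh69.PO.mono hF₀.2 (by rw [support_zero]; exact isClosed_empty)
      (by rw [support_zero]; exact Set.empty_subset _)⟩
  haveI : ObjectProperty.IsClosedUnderKernels (cohPO g) := ⟨by
    rintro _ ⟨φ, k, hk, hφ⟩
    refine hiso ((kernelIsKernel φ).conePointUniqueUpToIso hk) ?_
    have hc := QC70.isCoh_kernel φ hφ.1.1 hφ.2.1.1
    have := hc.2
    exact ⟨hc, Coh69.PO.mono hφ.1.2 (QC70.isClosed_support (kernel φ)) (QC70.mem_support_of_mono (kernel.ι φ))⟩⟩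
  haveI : ObjectProperty.IsClosedUnderCokernels (cohPO g) := ⟨by
    rintro _ ⟨φ, k, hk, hφ⟩
    refine hiso ((cokernelIsCokernel φ).coconePointUniqueUpToIso hk) ?_
    have hc := QC70.isCoh_cokernel φ hφ.1.1.1 hφ.2.1
    have := hc.2
    exact ⟨hc, Coh69.PO.mono hφ.2.2 (QC70.isClosed_support (cokernel φ)) (QC70.mem_support_of_epi (cokernel.π φ))⟩⟩
  haveI : ObjectProperty.IsClosedUnderExtensions (cohPO g) := ⟨fun {S} hS h₁ h₃ =>
    have h₂ := QC70.isCoh_X₂ _ hS h₁.1 h₃.1
    ⟨h₂, (S0796.result g S hS h₁.1 h₂ h₃.1).2 ⟨h₁.2, h₃.2⟩⟩⟩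
  exact { }

open DerivedCategory Pretriangulated in
/-- The transform of a bounded coherent object is bounded, with coherent properly supported cohomology. -/
theorem transform_bounded (hK : Coh.IsCoh K) (hflat : FlatMod.IsFlatOver p K)
    [LocallyOfFiniteType g] [IsLocallyNoetherian Y] (hs : ClSub.IsProperOver g (CohB1.support K))
    [DCoh.HasLpull p] [DCoh.HasLTensorMod K] (M : DCoh.D X) (hM : DCoh.IsCohD M) (m n : ℤ)
    (hm : M.IsGE m) (hn : M.IsLE n) :
    (∀ i, cohPO g (DCoh.HD ((DCoh.LTensorMod K).obj ((DCoh.Lpull p).obj M)) i)) ∧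
      ∃ a b : ℤ, ((DCoh.LTensorMod K).obj ((DCoh.Lpull p).obj M)).IsGE a ∧
        ((DCoh.LTensorMod K).obj ((DCoh.Lpull p).obj M)).IsLE b := by
  have := isWeakSerre_cohPO g ⟨K, hK, hs⟩
  have hz₀ : ∀ W : Z.Modules, IsZero W → cohPO g W := fun W hW => by
    obtain ⟨Z₀, hZ₀, hP⟩ := (cohPO g).exists_prop_of_containsZero
    exact (cohPO g).prop_of_iso (hZ₀.iso hW) hP
  let B : ObjectProperty (DCoh.D Z) := fun W => (∀ i, cohPO g (DCoh.HD W i)) ∧
    ∃ a b : ℤ, W.IsGE a ∧ W.IsLE b
  have hBiso : ∀ {W W' : DCoh.D Z} (_ : W ≅ W'), B W → B W' := by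
    rintro W W' e ⟨h, a, b, ha, hb⟩
    exact ⟨fun i => (cohPO g).prop_of_iso ((homologyFunctor _ i).mapIso e) (h i), a, b,
      TStructure.t.isGE_of_iso e a, TStructure.t.isLE_of_iso e b⟩
  let S : ObjectProperty (DCoh.D X) := fun W => B ((DCoh.LTensorMod K).obj ((DCoh.Lpull p).obj W))
  have : S.IsClosedUnderIsomorphisms :=
    ⟨fun e h => hBiso ((DCoh.LTensorMod K).mapIso ((DCoh.Lpull p).mapIso e)) h⟩
  have hsingle : ∀ (q : ℤ) (F : X.Modules), Coh.IsCoh F → S ((singleFunctor X.Modules q).obj F) := by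
    intro q F hF
    obtain ⟨e⟩ := nonempty_transform_inD p K hflat F q
    refine hBiso e.symm ⟨fun i => ?_, q, q, inferInstance, inferInstance⟩
    by_cases h : i = q
    · subst h
      exact (cohPO g).prop_of_iso ((singleFunctorCompHomologyFunctorIso Z.Modules i).app _).symm
        (cohPO_psi p g hF hK hs)
    · rcases lt_or_gt_of_ne h with h | h
      · exact hz₀ _ (DerivedCategory.isZero_of_isGE ((singleFunctor Z.Modules q).obj _) q i h)
      · exact hz₀ _ (DerivedCategory.isZero_of_isLE ((singleFunctor Z.Modules q).obj _) q i h)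
  have hzero : ∀ W, IsZero W → S W := fun W hW =>
    S.prop_of_iso (((singleFunctor X.Modules 0).map_isZero (isZero_zero X.Modules)).iso hW)
      (hsingle 0 _ (QC70.isCoh_of_isZero (isZero_zero _)))
  have hext : ∀ T ∈ distinguishedTriangles, S (Triangle.obj₁ T) → S (Triangle.obj₃ T) → S (Triangle.obj₂ T) := by
    intro T hT h₁ h₃
    obtain ⟨T', hT', ⟨a₁⟩, ⟨a₂⟩, ⟨a₃⟩⟩ := DCX42.exists_Lpull_triangle p T hT
    obtain ⟨T'', hT'', ⟨b₁⟩, ⟨b₂⟩, ⟨b₃⟩⟩ := DCK91.exists_LTM_triangle T' hT' K
    refine hBiso (b₂ ≪≫ (DCoh.LTensorMod K).mapIso a₂) ?_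
    obtain ⟨c₁, x₁, y₁, hx₁, hy₁⟩ := hBiso (b₁ ≪≫ (DCoh.LTensorMod K).mapIso a₁).symm h₁
    obtain ⟨c₃, x₃, y₃, hx₃, hy₃⟩ := hBiso (b₃ ≪≫ (DCoh.LTensorMod K).mapIso a₃).symm h₃
    exact ⟨Mod48.prop_homology_obj₂ _ _ hT'' c₁ c₃, min x₁ x₃, max y₁ y₃,
      TStructure.t.isGE₂ _ hT'' _ (TStructure.t.isGE_of_ge T''.obj₁ _ x₁ (min_le_left _ _))
        (TStructure.t.isGE_of_ge T''.obj₃ _ x₃ (min_le_right _ _)),
      TStructure.t.isLE₂ _ hT'' _ (TStructure.t.isLE_of_le T''.obj₁ y₁ _ (le_max_left _ _))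
        (TStructure.t.isLE_of_le T''.obj₃ y₃ _ (le_max_right _ _))⟩
  exact Mod48.bounded_induction S hzero hext (n + 1 - m).toNat m M hm
    (TStructure.t.isLE_of_le _ n _ (by omega)) fun q => hsingle q _ (hM q)

end Groth.Agent.PropPush72
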